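import Groth.Agent.AlgStLib.QuotRepProps
import Groth.Agent.AlgStLib.Descent
import Groth.Agent.AlgStLib.Stacks
import Groth.Agent.AlgStLib.LocQ
import Groth.Agent.S13571

/-!
# Forgetting the map to the space: the quotient stack over the classifying stack
-/

set_option autoImplicit false
set_option backward.isDefEq.respectTransparency false
set_option backward.isDefEq.respectTransparency.types false
set_option linter.style.haveILetI false
universe u

noncomputable section

namespace Groth.Agent.EssDimRep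

open CategoryTheory CategoryTheory.Limits MonoidalCategory CartesianMonoidalCategory MonObj GrpObj AlgebraicGeometry Opposite
open _root_.AlgSp Groth.Agent.FibCatRep Groth.Agent.FibCat2Misc Groth.Agent.AlgStLib Groth.Agent.AlgStLib.Quot

variable {S : Scheme.{u}} {G X : Over S} [GrpObj G] (aX : AlgGrp.Action G X)

local notation "Kf" => Scheme.fppfPrecoverage

/-- forget the equivariant map -/
def forgetObj (A : AlgSt.QuotObj Kf G aX) : AlgSt.QuotObj Kf G (AlgSt.trivAction G) where
  base := A.base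
  P := A.P
  act := A.act
  π := A.π
  cart := A.cart
  loc := A.loc
  φ := toUnit _
  eqv := toUnit_unique _ _

/-- the functor `[X/G] ⟶ BG` -/
def forgetFun : AlgSt.QuotSt Kf G aX ⥤ᵇ AlgSt.BG Kf G where
  toFunctor :=
    { obj := forgetObj aX
      map := fun h => ⟨h.base, h.top, h.eqv, h.cart, toUnit_unique _ _⟩
      map_id := fun _ => rfl
      map_comp := fun _ _ => rfl }
  w := rfl

instance : (forgetFun aX).toFunctor.Faithful :=
  ⟨fun {A B} {h h'} e => by
    have h₁ := congrArg (fun t => AlgSt.QuotObj.Hom.base t) e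
    have h₂ := congrArg (fun t => AlgSt.QuotObj.Hom.top t) e
    exact AlgSt.QuotObj.hom_ext h₁ h₂⟩

/-- the trivial cover of the classifying stack -/
abbrev cover : FibCat.overCat (𝟙_ (Over S)) ⥤ᵇ AlgSt.BG Kf G := qX (aX := AlgSt.trivAction G)

/-- trivial torsors forget to trivial torsors -/
def trivCmp (T : Over S) (x : T ⟶ X) :
    (cover (G := G)).obj (Over.mk (toUnit T)) ≅ (forgetFun aX).obj ((qX (aX := aX)).obj (Over.mk x)) where
  hom := ⟨𝟙 T, 𝟙 (G ⊗ T),
    (show (AlgSt.leftMul G T).act ≫ 𝟙 (G ⊗ T) = (G ◁ 𝟙 (G ⊗ T)) ≫ (AlgSt.leftMul G T).act by simp),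
    (show IsPullback (𝟙 (G ⊗ T)) (snd G T) (snd G T) (𝟙 T) from IsPullback.of_horiz_isIso ⟨by simp⟩),
    toUnit_unique _ _⟩
  inv := ⟨𝟙 T, 𝟙 (G ⊗ T),
    (show (AlgSt.leftMul G T).act ≫ 𝟙 (G ⊗ T) = (G ◁ 𝟙 (G ⊗ T)) ≫ (AlgSt.leftMul G T).act by simp),
    (show IsPullback (𝟙 (G ⊗ T)) (snd G T) (snd G T) (𝟙 T) from IsPullback.of_horiz_isIso ⟨by simp⟩),
    toUnit_unique _ _⟩
  hom_inv_id := AlgSt.QuotObj.hom_ext (Category.id_comp _) (Category.id_comp _)
  inv_hom_id := AlgSt.QuotObj.hom_ext (Category.id_comp _) (Category.id_comp _)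

/-- trivialised objects -/
def fibObj (x : Over X) : (FibCat.fp (cover (G := G)) (forgetFun aX)).obj :=
  ⟨⟨Over.mk (toUnit x.left), (qX (aX := aX)).obj x, trivCmp aX x.left x.hom⟩,
    fpProp_of_map _ _ _ rfl rfl⟩

/-- the comparison with the base change to the trivial cover -/
def fibFun : FibCat.overCat X ⥤ᵇ FibCat.fp (cover (G := G)) (forgetFun aX) where
  toFunctor :=
    { obj := fibObj aX
      map := fun {x x'} m => ObjectProperty.homMk
        ⟨(Over.homMk m.left (toUnit_unique _ _) : Over.mk (toUnit x.left) ⟶ Over.mk (toUnit x'.left)),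
          (qX (aX := aX)).map m, by
          refine AlgSt.QuotObj.hom_ext ?_ ?_
          · show m.left ≫ 𝟙 x'.left = 𝟙 x.left ≫ m.left
            rw [Category.id_comp, Category.comp_id]
          · show (G ◁ m.left) ≫ 𝟙 (G ⊗ x'.left) = 𝟙 (G ⊗ x.left) ≫ (G ◁ m.left)
            rw [Category.id_comp, Category.comp_id]⟩
      map_id := fun x => ObjectProperty.hom_ext _ (CategoricalPullback.hom_ext (Over.OverMorphism.ext rfl)
        ((qX (aX := aX)).toFunctor.map_id x))
      map_comp := fun m n => ObjectProperty.hom_ext _ (CategoricalPullback.hom_ext (Over.OverMorphism.ext rfl)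
        ((qX (aX := aX)).toFunctor.map_comp m n)) }
  w := rfl

theorem isEquivOver_fibFun : FibCat.IsEquivOver (fibFun aX) := by
  haveI : (fibFun aX).toFunctor.Faithful := ⟨fun {x x'} {m m'} e => Over.OverMorphism.ext (by
    exact congrArg (fun t => t.hom.fst.left) e)⟩
  haveI : (fibFun aX).toFunctor.Full := ⟨fun {x x'} M => by
    let f : x.left ⟶ x'.left := M.hom.fst.left
    let h : (qX (aX := aX)).obj x ⟶ (qX (aX := aX)).obj x' := M.hom.snd
    have w := M.hom.w
    have hb : f = h.base := by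
      have := congrArg AlgSt.QuotObj.Hom.base w
      change f ≫ 𝟙 x'.left = 𝟙 x.left ≫ h.base at this
      rwa [Category.id_comp, Category.comp_id] at this
    have ht : (G ◁ f) = h.top := by
      have := congrArg AlgSt.QuotObj.Hom.top w
      change (G ◁ f) ≫ 𝟙 (G ⊗ x'.left) = 𝟙 (G ⊗ x.left) ≫ h.top at this
      rwa [Category.id_comp, Category.comp_id] at this
    have hx : f ≫ x'.hom = x.hom := by
      have hw : h.top ≫ (G ◁ x'.hom) ≫ aX.act = (G ◁ x.hom) ≫ aX.act := h.wφ
      rw [← ht, ← MonoidalCategory.whiskerLeft_comp_assoc] at hw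
      have := lift (1 : x.left ⟶ G) (𝟙 _) ≫= hw
      simp only [lift_whiskerLeft_assoc, Category.id_comp] at this
      exact ((Groth.Agent.Torsor.one_smul aX _).symm.trans this).trans (Groth.Agent.Torsor.one_smul aX _)
    exact ⟨Over.homMk f hx, ObjectProperty.hom_ext _ (CategoricalPullback.hom_ext (Over.OverMorphism.ext rfl)
      (AlgSt.QuotObj.hom_ext hb ht))⟩⟩
  refine isEquivOver_of_fullyFaithful _ fun o => ?_
  let z : Over (𝟙_ (Over S)) := o.obj.fst
  let A : AlgSt.QuotObj Kf G aX := o.obj.snd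
  let i : (cover (G := G)).obj z ≅ (forgetFun aX).obj A := o.obj.iso
  obtain ⟨q, hq⟩ := map_iso_hom o
  have hib : i.hom.base = eqToHom q := hq
  let σ : z.left ⟶ A.P := unitPt (X := 𝟙_ (Over S)) (T := z.left) (x := z.hom) i.hom
  let ψ := trivHom A σ
  have hψb : (AlgSt.QuotSt Kf G aX).p.map ψ = eqToHom q :=
    (unitPt_π (X := 𝟙_ (Over S)) (T := z.left) (x := z.hom) i.hom).trans hib
  haveI : IsIso ((AlgSt.QuotSt Kf G aX).p.map ψ) := by rw [hψb]; infer_instance
  haveI : IsIso ψ := FibCatRep.isIso_of_map (Quot.isFibGrpd G aX) ψ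
  let x : Over X := Over.mk (σ ≫ A.φ)
  let e₁ : Over.mk (toUnit z.left) ≅ z := Over.isoMk (Iso.refl _) (toUnit_unique _ _)
  refine ⟨x, ObjectProperty.isoMk _ (CategoricalPullback.mkIso e₁ (asIso ψ) ?_), rfl, rfl⟩
  show (cover (G := G)).map e₁.hom ≫ i.hom = (trivCmp aX z.left (σ ≫ A.φ)).hom ≫ (forgetFun aX).map ψ
  have e2 : ∀ h : (cover (G := G)).obj (Over.mk (toUnit z.left)) ⟶ (forgetFun aX).obj A,
      unitPt (X := 𝟙_ (Over S)) (T := z.left) (x := toUnit z.left) h = lift (1 : z.left ⟶ G) (𝟙 _) ≫ h.top :=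
    fun h => rfl
  refine hom_ext_unitPt (X := 𝟙_ (Over S)) (T := z.left) (x := toUnit z.left) ?_
  rw [e2, e2]
  show lift (1 : z.left ⟶ G) (𝟙 _) ≫ (G ◁ 𝟙 z.left) ≫ i.hom.top =
    lift (1 : z.left ⟶ G) (𝟙 _) ≫ 𝟙 (G ⊗ z.left) ≫ ψ.top
  rw [MonoidalCategory.whiskerLeft_id, Category.id_comp, Category.id_comp]
  exact (unitPt_trivHom A σ).symm

/-- properties of `[X/G] ⟶ BG` from the structure map of `X` -/
theorem repWith_forgetFun [Flat G.hom] [LocallyOfFinitePresentation G.hom] [IsAffineHom G.hom]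
    {Q : MorphismProperty (Sp S)} (hb : BCStable Q) (hl : IsLocalOnBase (IsFppfCover (S := S)) Q)
    (hQ : Q ((yon S).map (toUnit X))) : AlgSt.RepByAlgSpWith Q (forgetFun aX) := by
  have h₁ : AlgSt.RepByAlgSp1 (forgetFun aX) := repByAlgSp1_of_faithful
    (Groth.Agent.S13571.result G X aX) (Groth.Agent.S13571.result G (𝟙_ (Over S)) (AlgSt.trivAction G)) _
  have hw : Lifts (cover (G := G)) := lifts_of_fppf
    (repWith_qX_locP @Flat Groth.Agent.AlgSpLib.etST_flat ‹_›)
    (repWith_qX_locP @LocallyOfFinitePresentation Groth.Agent.AlgSpLib.etST_lfp ‹_›) repWith_qX_surjective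
  refine repWith_of_lifts hb hl h₁ hw ?_
  let g : FibCat.overCat X ⥤ᵇ FibCat.overCat (𝟙_ (Over S)) :=
    BasedFunctor.comp (fibFun aX) (FibCat.fpFst (cover (G := G)) (forgetFun aX))
  refine (repWith_iff_of_equiv Q (FibCat.fpFst (cover (G := G)) (forgetFun aX)) g (fibFun aX)
    (BasedFunctor.id _) (isEquivOver_fibFun aX) isEquivOver_id (Iso.refl _)).2 ?_
  have h₂ := repWith_ofSpMap (V := spOf X) (W := spOf (𝟙_ (Over S))) hb
    (ObjectProperty.homMk ((yon S).map (toUnit X))) hQ
  let e : BasedFunctor.comp (AlgSt.ofSpMap ((yon S).map (toUnit X))) (AlgSt.toOverCat (𝟙_ (Over S))) ≅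
      BasedFunctor.comp (AlgSt.toOverCat X) g :=
    BasedNatIso.mkNatIso (NatIso.ofComponents (fun a => Over.isoMk (Iso.refl _) (toUnit_unique _ _))
      (fun m => Over.OverMorphism.ext (by
        show m.hom ≫ 𝟙 _ = 𝟙 _ ≫ m.hom
        rw [Category.id_comp, Category.comp_id])))
      (fun a => IsHomLift.of_fac' _ _ _ rfl rfl (by
        show 𝟙 a.base = _
        exact (Category.id_comp _).symm.trans (Category.comp_id _).symm |>.trans (Category.id_comp _).symm))
  exact (repWith_iff_of_equiv Q g (AlgSt.ofSpMap ((yon S).map (toUnit X))) (AlgSt.toOverCat X)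
    (AlgSt.toOverCat _) (isEquivOver_toOverCat X) (isEquivOver_toOverCat _) e).2 h₂

end Groth.Agent.EssDimRep
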