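import Groth.Agent.EssDimRep.Point
import Groth.Agent.AlgStLib.Rep

/-!
# Essential dimension along representable morphisms of bounded relative dimension
-/

set_option autoImplicit false
set_option backward.isDefEq.respectTransparency false
set_option backward.isDefEq.respectTransparency.types false
set_option linter.style.haveILetI false
universe u

noncomputable section

namespace Groth.Agent.EssDimRep

open CategoryTheory CategoryTheory.Limits AlgebraicGeometry Opposite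
open _root_.AlgSp _root_.AlgSt Groth.Agent.FibCatRep Groth.Agent.FibCat2Misc

variable {k : Type u} [Field k]

/-- descent along a representable morphism -/
theorem exists_descends {𝒳 𝒴 : AlgSt.Cat (Spec (CommRingCat.of k))}
    [hX : FibCat.IsFibGrpd 𝒳.p] [hY : FibCat.IsFibGrpd 𝒴.p] (F : 𝒳 ⥤ᵇ 𝒴) (d : ℕ)
    (hF : RepByAlgSpWith
      (LocP @LocallyOfFiniteType ⊓ IsQuasiSeparatedMor ⊓ fun _ _ g => CurvSt.RelDimLE d g) F)
    {L : Type u} [Field L] [Algebra k L] (x : StkCnt.pts 𝒳 L) (K : IntermediateField k L)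
    (hK : EssDim.Descends (Gerb.isoClPsh 𝒴)
      (Quot.mk (Gerb.IsoRel 𝒴 (SGA7.pt (K := k) L)) ⟨F.obj x.1, (F.w_obj x.1).trans x.2⟩) K) :
    ∃ M : IntermediateField k L,
      EssDim.Descends (Gerb.isoClPsh 𝒳) (Quot.mk (Gerb.IsoRel 𝒳 (SGA7.pt (K := k) L)) x) M ∧
        Algebra.trdeg k M ≤ Algebra.trdeg k K + (d : Cardinal.{u}) := by
  obtain ⟨y₀, φ, hφ⟩ := (EssDim.descends_isoCl_iff 𝒴 _ K).1 hK
  change F.obj x.1 ⟶ y₀.1 at φ
  let U := SGA7.pt (K := k) K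
  haveI := Groth.Agent.S6409.result hY U
  let y := (FibCat.evalAtId 𝒴 U).objPreimage y₀
  let i := (FibCat.evalAtId 𝒴 U).objObjPreimageIso y₀
  let t : (FibCat.overCat U).obj := Over.mk (𝟙 U)
  let i₁ : y.obj t ⟶ y₀.1 := i.hom.1
  have hi₁ : 𝒴.p.map i₁ = eqToHom ((y.w_obj t).trans y₀.2.symm) := map_of_fiber i.hom
  let s : (FibCat.overCat U).obj := Over.mk (EssDim.resPt K.val)
  let m₀ : s ⟶ t := Over.homMk (EssDim.resPt K.val) (Category.comp_id _)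
  have hFx : 𝒴.p.obj (F.obj x.1) = SGA7.pt (K := k) L := (F.w_obj x.1).trans x.2
  have hφ' : 𝒴.p.map φ = eqToHom hFx ≫ EssDim.resPt K.val ≫ eqToHom y₀.2.symm :=
    IsHomLift.fac' 𝒴.p (EssDim.resPt K.val) φ
  have hys : 𝒴.p.obj (y.obj s) = SGA7.pt (K := k) L := y.w_obj s
  obtain ⟨χ, ⟨hχ, -⟩, -⟩ := existsUnique_cart hY φ (y.map m₀ ≫ i₁) (eqToHom (hys.trans hFx.symm)) (by
    rw [Functor.map_comp, map_map y m₀, hi₁, hφ']
    simp [m₀, s, t]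
    rfl)
  haveI : IsIso (𝒴.p.map χ) := by rw [hχ]; infer_instance
  haveI := Groth.Agent.FibCatRep.isIso_of_map hY χ
  let o : (FibCat.fp y F).obj :=
    ⟨⟨s, x.1, asIso χ⟩, fpProp_of_map y F _ (hys.trans hFx.symm) hχ⟩
  obtain ⟨Z, e, he, ⟨hl, hq⟩, hd⟩ := hF U y
  obtain ⟨ξ, ε, hξ, hε⟩ := (isEquivOver_data he).2 o
  have hb : ξ.base = SGA7.pt (K := k) L := (e.w_obj ξ).symm.trans hξ
  let z : Z.obj.obj.obj (op (SGA7.pt (K := k) L)) := Z.obj.obj.map (eqToHom hb.symm).op ξ.sec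
  obtain ⟨M, z₀, hz, htr⟩ := exists_factor Z.property
    (spMapOfOver (BasedFunctor.comp e (FibCat.fpFst y F))) d hl hq hd z
  refine ⟨M, ?_, htr⟩
  rw [EssDim.descends_isoCl_iff]
  let ξ₀ : (ofSp Z.obj).obj := ⟨SGA7.pt (K := k) M, z₀⟩
  let n : ξ ⟶ ξ₀ := ⟨eqToHom hb ≫ EssDim.resPt M.val, by
    show Z.obj.obj.map _ z₀ = ξ.sec
    rw [op_comp, Functor.map_comp_apply, hz]
    show Z.obj.obj.map (eqToHom hb).op (Z.obj.obj.map (eqToHom hb.symm).op ξ.sec) = _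
    rw [← Functor.map_comp_apply, ← op_comp, eqToHom_trans, eqToHom_refl, op_id, Functor.map_id_apply]⟩
  let m : o ⟶ e.obj ξ₀ := ε.inv ≫ e.map n
  have hw₀ : (FibCat.fp y F).p.obj (e.obj ξ₀) = SGA7.pt (K := k) M := e.w_obj ξ₀
  refine ⟨⟨(e.obj ξ₀).obj.snd, (fp_obj_eq (e.obj ξ₀)).trans hw₀⟩, m.hom.snd, ?_⟩
  have hεinv : (FibCat.fp y F).p.map ε.inv = eqToHom hξ.symm := by
    rw [← cancel_epi ((FibCat.fp y F).p.map ε.hom), ← Functor.map_comp, ε.hom_inv_id, hε]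
    simp
    rfl
  have hm : (FibCat.fp y F).p.map m = EssDim.resPt M.val ≫ eqToHom hw₀.symm := by
    rw [Functor.map_comp, hεinv, map_map e n]
    simp [n, ξ₀, o, s]
  refine IsHomLift.of_fac' 𝒳.p _ _ x.2 ((fp_obj_eq (e.obj ξ₀)).trans hw₀) ?_
  rw [map_snd m]
  change _ ≫ (FibCat.fp y F).p.map m ≫ _ = _
  rw [hm]
  simp

/-- the inequality for one point -/
theorem edStAt_le {𝒳 𝒴 : AlgSt.Cat (Spec (CommRingCat.of k))}
    [hX : FibCat.IsFibGrpd 𝒳.p] [hY : FibCat.IsFibGrpd 𝒴.p] (F : 𝒳 ⥤ᵇ 𝒴) (d : ℕ)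
    (hF : RepByAlgSpWith
      (LocP @LocallyOfFiniteType ⊓ IsQuasiSeparatedMor ⊓ fun _ _ g => CurvSt.RelDimLE d g) F)
    {L : Type u} [Field L] [Algebra k L] (x : StkCnt.pts 𝒳 L) :
    EssDim.edStAt 𝒳 x ≤ EssDim.edStAt 𝒴 ⟨F.obj x.1, (F.w_obj x.1).trans x.2⟩ + d := by
  set ξ : EssDim.FPt (Gerb.isoClPsh 𝒴) L :=
    Quot.mk (Gerb.IsoRel 𝒴 (SGA7.pt (K := k) L)) ⟨F.obj x.1, (F.w_obj x.1).trans x.2⟩ with hξ
  haveI : Nonempty {K : IntermediateField k L // EssDim.Descends (Gerb.isoClPsh 𝒴) ξ K} :=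
    ⟨⟨⊤, EssDim.descends_top _⟩⟩
  obtain ⟨⟨K, hK⟩, hKm⟩ := ciInf_mem
    fun K : {K : IntermediateField k L // EssDim.Descends (Gerb.isoClPsh 𝒴) ξ K} =>
      Cardinal.toENat (Algebra.trdeg k K.1)
  obtain ⟨M, hM, htr⟩ := exists_descends F d hF x K hK
  refine (EssDim.edAt_le_of_descends hM).trans ((OrderHomClass.mono Cardinal.toENat htr).trans ?_)
  rw [map_add, map_natCast]
  exact add_le_add (le_of_eq hKm) le_rfl

/-- the inequality for the stacks -/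
theorem edSt_le {𝒳 𝒴 : AlgSt.Cat (Spec (CommRingCat.of k))}
    [hX : FibCat.IsFibGrpd 𝒳.p] [hY : FibCat.IsFibGrpd 𝒴.p] (F : 𝒳 ⥤ᵇ 𝒴) (d : ℕ)
    (hF : RepByAlgSpWith
      (LocP @LocallyOfFiniteType ⊓ IsQuasiSeparatedMor ⊓ fun _ _ g => CurvSt.RelDimLE d g) F) :
    EssDim.edSt 𝒳 ≤ EssDim.edSt 𝒴 + ((d : ℕ) : WithBot ℕ∞) := by
  refine iSup_le fun L => iSup_le fun iL => iSup_le fun iA => iSup_le fun ξ => ?_
  induction ξ using Quot.ind with
  | mk x =>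
    have h := WithBot.coe_le_coe.2 (edStAt_le F d hF x)
    refine h.trans ?_
    rw [WithBot.coe_add]
    exact add_le_add (EssDim.edAt_le_ed (P := Gerb.isoClPsh 𝒴) _) (le_of_eq rfl)

end Groth.Agent.EssDimRep
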