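import Groth.Prelude.Def_EssDim
import Groth.Prelude.Def_StCurv2
import Groth.Agent.SpQS.DecentQS
import Groth.Agent.SpQS.DecentMor
import Groth.Agent.SpQS.DecentProps
import Groth.Agent.AlgSpLib.PointMisc
import Groth.Agent.SpRelDim.Trdeg
import Groth.Agent.SpRelDim.Scheme
import Mathlib.RingTheory.AlgebraicIndependent.TranscendenceBasis

/-!
# Field valued points of spaces of bounded relative dimension over a field
-/

set_option autoImplicit false
set_option backward.isDefEq.respectTransparency false
set_option backward.isDefEq.respectTransparency.types false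
set_option linter.style.haveILetI false
universe u

noncomputable section

namespace Groth.Agent.EssDimRep

open CategoryTheory CategoryTheory.Limits AlgebraicGeometry Opposite
open _root_.AlgSp Groth.Agent.AlgSpLib

/-- residue fields over a field of bounded fibre dimension -/
theorem trdeg_residueField_le {K : Type u} [Field K] {X : Scheme.{u}} (f : X ⟶ Spec (CommRingCat.of K))
    [LocallyOfFiniteType f] (v : X) (d : ℕ) (hd : FlatMor.fibreDimAt f v ≤ (d : WithBot ℕ∞)) :
    @Algebra.trdeg K (X.residueField v) _ _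
      (Spec.preimage (X.fromSpecResidueField v ≫ f)).hom.toAlgebra ≤ (d : Cardinal.{u}) := by
  obtain ⟨b, δ, -, hδ, hD⟩ := SpRelDim.fibreDimAt_eq_add_resTrdeg f v
  rw [hD] at hd
  have hδd : δ ≤ d := by
    have : b + δ ≤ d := by exact_mod_cast hd
    omega
  letI := (Spec.preimage (X.fromSpecResidueField v ≫ f)).hom.toAlgebra
  let Y := Spec (CommRingCat.of K)
  letI := (f.residueFieldMap v).hom.toAlgebra
  let θ : CommRingCat.of K ⟶ Y.residueField (f v) := Spec.preimage (Y.fromSpecResidueField (f v))
  letI : Algebra K (Y.residueField (f v)) := θ.hom.toAlgebra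
  have he : θ ≫ f.residueFieldMap v = Spec.preimage (X.fromSpecResidueField v ≫ f) :=
    Spec.map_injective (by
      rw [Spec.map_comp, Spec.map_preimage, Spec.map_preimage, Scheme.Hom.SpecMap_residueFieldMap_fromSpecResidueField])
  haveI : IsScalarTower K (Y.residueField (f v)) (X.residueField v) :=
    IsScalarTower.of_algebraMap_eq' (congrArg (fun g => g.hom) he).symm
  haveI : Subsingleton ↥Y := inferInstanceAs (Subsingleton (PrimeSpectrum K))
  haveI : IsPreimmersion (Spec.map θ) := by rw [Spec.map_preimage]; infer_instance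
  haveI : IsClosedImmersion (Spec.map θ) :=
    IsClosedImmersion.of_isPreimmersion _ (Set.subsingleton_of_subsingleton.isClosed)
  haveI : Module.Finite K (Y.residueField (f v)) :=
    ((IsFinite.SpecMap_iff θ).1 inferInstance : θ.hom.Finite)
  haveI : Algebra.IsAlgebraic K (Y.residueField (f v)) := Algebra.IsAlgebraic.of_finite _ _
  rw [← trdeg_add_eq (R := K) (S := Y.residueField (f v)) (A := X.residueField v),
    trdeg_eq_zero (R := K) (A := Y.residueField (f v)), zero_add]
  refine le_of_eq_of_le hδ ?_
  exact_mod_cast hδd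

variable {k : Type u} [Field k]

/-- a point of a space of relative dimension at most `d` over a field is defined over a small field -/
theorem exists_factor {K : Type u} [Field K] [Algebra k K] {Z : Sp (Spec (CommRingCat.of k))}
    (hZ : IsAlgSpace Z) (g : Z ⟶ (yon _).obj (SGA7.pt (K := k) K)) (d : ℕ)
    (hl : LocP @LocallyOfFiniteType g) (hq : IsQuasiSeparatedMor g) (hd : CurvSt.RelDimLE d g)
    {L : Type u} [Field L] [Algebra k L] (z : Z.obj.obj (op (SGA7.pt (K := k) L))) :
    ∃ (M : IntermediateField k L) (z₀ : Z.obj.obj (op (SGA7.pt (K := k) M))),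
      Z.obj.map (EssDim.resPt M.val).op z₀ = z ∧ Algebra.trdeg k M ≤ Algebra.trdeg k K + (d : Cardinal.{u}) := by
  let S := Spec (CommRingCat.of k)
  let q : FieldPt Z := ⟨L, Spec.map (CommRingCat.ofHom (algebraMap k L)), z⟩
  have hdec : IsDecent Z := SpQS.isDecent_of_isDecentMor g
    (SpQS.isDecentMor_of_qs hZ (IsAlgSpace.yon_obj _) g hq) (SpQS.isDecent_yon _)
  obtain ⟨p, hp, hm, -⟩ := hdec (Points.mk q)
  obtain ⟨c, hc, -⟩ := existsUnique_factor_fieldPt hZ p q hp
  letI : Algebra k p.K := (Spec.preimage p.str).hom.toAlgebra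
  have hstr : Spec.map (CommRingCat.ofHom (algebraMap k p.K)) = p.str := Spec.map_preimage p.str
  let cl : Spec (CommRingCat.of L) ⟶ Spec (CommRingCat.of p.K) := c.left
  let φ : p.K →+* L := (Spec.preimage cl).hom
  have hφ : Spec.map (CommRingCat.ofHom φ) = cl := Spec.map_preimage cl
  have hcw : cl ≫ p.str = Spec.map (CommRingCat.ofHom (algebraMap k L)) := Over.w c
  have hφk : φ.comp (algebraMap k p.K) = algebraMap k L := by
    have : CommRingCat.ofHom (algebraMap k p.K) ≫ CommRingCat.ofHom φ = CommRingCat.ofHom (algebraMap k L) :=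
      Spec.map_injective (by rw [Spec.map_comp, hφ, hstr]; exact hcw)
    exact congrArg CommRingCat.Hom.hom this
  let f : p.K →ₐ[k] L := ⟨φ, fun a => RingHom.congr_fun hφk a⟩
  let e := AlgHom.equivFieldRange f
  let r : SGA7.pt (K := k) f.fieldRange ⟶ p.pt :=
    Over.homMk (Spec.map (CommRingCat.ofHom (e : p.K →+* f.fieldRange))) (by
      show Spec.map _ ≫ p.str = Spec.map _
      rw [← hstr, ← Spec.map_comp]
      congr 1
      ext a
      exact congrArg Subtype.val (e.commutes a))
  refine ⟨f.fieldRange, Z.obj.map r.op p.val, ?_, ?_⟩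
  · have hr : EssDim.resPt f.fieldRange.val ≫ r = c := by
      apply Over.OverMorphism.ext
      show Spec.map _ ≫ Spec.map _ = cl
      rw [← hφ, ← Spec.map_comp]
      rfl
    rw [← Functor.map_comp_apply, ← op_comp, hr]
    have h1 := congrArg (fun t => (J S).uliftYonedaEquiv t) hc
    simp only [FieldPt.uliftYonedaEquiv_toHom, GrothendieckTopology.uliftYonedaEquiv_comp,
      GrothendieckTopology.uliftYonedaEquiv_uliftYoneda_map] at h1
    rw [← FieldPt.toHom_app]
    exact h1
  · rw [← AlgEquiv.trdeg_eq e]
    obtain ⟨b, hb⟩ := exists_map_eq (p.toHom ≫ g)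
    let bl : Spec (CommRingCat.of p.K) ⟶ Spec (CommRingCat.of K) := b.left
    letI : Algebra K p.K := (Spec.preimage bl).hom.toAlgebra
    have hbw : bl ≫ Spec.map (CommRingCat.ofHom (algebraMap k K)) = p.str := Over.w b
    haveI : IsScalarTower k K p.K := IsScalarTower.of_algebraMap_eq' (by
      have : CommRingCat.ofHom (algebraMap k K) ≫ Spec.preimage bl = CommRingCat.ofHom (algebraMap k p.K) :=
        Spec.map_injective (by rw [Spec.map_comp, Spec.map_preimage, hstr]; exact hbw)
      exact (congrArg CommRingCat.Hom.hom this).symm)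
    rw [← trdeg_add_eq (R := k) (S := K) (A := p.K)]
    refine add_le_add le_rfl ?_
    obtain ⟨Ch, W, a, w, h, v, ha, hw, hcomm, hv, hdim⟩ := hd (Points.mk p)
    obtain ⟨w', hw'⟩ := exists_map_eq w
    haveI : Etale w'.left := (repWith_yon_iff w').1 (by rw [hw']; exact hw)
    have hcomm' : a ≫ g = (yon S).map (h ≫ w') := by rw [Functor.map_comp, hw', hcomm]
    let fl : Ch.left ⟶ Spec (CommRingCat.of K) := (h ≫ w').left
    haveI : LocallyOfFiniteType fl := hl a (𝟙 _) (h ≫ w') ha (repWith_id _ _) (by rw [Category.comp_id, hcomm'])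
    haveI : LocallyOfFiniteType h.left := by
      haveI : LocallyOfFiniteType (h.left ≫ w'.left) := ‹LocallyOfFiniteType fl›
      exact locallyOfFiniteType_of_comp h.left w'.left
    have hdim' : FlatMor.fibreDimAt fl v ≤ (d : WithBot ℕ∞) := by
      show FlatMor.fibreDimAt (h.left ≫ w'.left) v ≤ _
      rw [SpRelDim.fibreDimAt_comp_etale]
      exact hdim
    have htr := trdeg_residueField_le fl v d hdim'
    letI := (Spec.preimage (Ch.left.fromSpecResidueField v ≫ fl)).hom.toAlgebra
    refine le_trans ?_ htr
    obtain ⟨c₁, hc₁, -⟩ := existsUnique_factor_fieldPt hZ p (FieldPt.ofPt a v) hv.symm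
    let c₁l : Spec (Ch.left.residueField v) ⟶ Spec (CommRingCat.of p.K) := c₁.left
    have hcb : c₁ ≫ b = Over.homMk (Ch.left.fromSpecResidueField v) rfl ≫ h ≫ w' := (yon S).map_injective (by
      rw [Functor.map_comp, hb, ← Category.assoc, hc₁, FieldPt.toHom_ofPt, Category.assoc, hcomm',
        ← Functor.map_comp])
    have hl' : c₁l ≫ bl = Ch.left.fromSpecResidueField v ≫ fl := congrArg CommaMorphism.left hcb
    let ι : p.K →ₐ[K] Ch.left.residueField v :=
      ⟨(Spec.preimage c₁l).hom, fun a => by
        have : Spec.preimage bl ≫ Spec.preimage c₁l = Spec.preimage (Ch.left.fromSpecResidueField v ≫ fl) :=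
          Spec.map_injective (by rw [Spec.map_comp, Spec.map_preimage, Spec.map_preimage, Spec.map_preimage, hl'])
        exact RingHom.congr_fun (congrArg CommRingCat.Hom.hom this) a⟩
    exact trdeg_le_of_injective ι ι.toRingHom.injective

end Groth.Agent.EssDimRep
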