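import Groth.Agent.EssDimRep.Main
import Groth.Agent.EssDimRep.Forget
import Groth.Agent.SpRelDim.Basic
import Groth.Agent.AlgStLib.Morphisms
import Groth.Agent.AlgSpLib.FpqcLocP
import Groth.Agent.AlgSpLib.FibreNoeth
import Groth.Agent.S10526
import Groth.Agent.TopDim.Basic
import Groth.Agent.CMChart.OverField

/-!
# Essential dimension of quotient stacks
-/

set_option autoImplicit false
set_option backward.isDefEq.respectTransparency false
set_option backward.isDefEq.respectTransparency.types false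
set_option linter.style.haveILetI false
universe u

noncomputable section

namespace Groth.Agent.EssDimRep

open CategoryTheory CategoryTheory.Limits MonoidalCategory CartesianMonoidalCategory AlgebraicGeometry Opposite
open _root_.AlgSp Groth.Agent.AlgStLib Groth.Agent.AlgSpLib

variable {S : Scheme.{u}}

/-- locally of finite type, quasi-separated, of relative dimension at most `d` -/
abbrev bddMor (d : ℕ) : MorphismProperty (Sp S) :=
  LocP @LocallyOfFiniteType ⊓ IsQuasiSeparatedMor ⊓ fun _ _ g => CurvSt.RelDimLE d g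

theorem bcStable_bddMor (d : ℕ) : BCStable (bddMor (S := S) d) := by
  intro X₁ Y₁ X₂ Y₂ hX₁ hY₁ hX₂ hY₂ a b a' b' sq ⟨⟨hl, hq⟩, hd⟩
  refine ⟨⟨locP_baseChange etST_lft hX₁ hY₁ hX₂ hY₂ sq hl, cls_quasiSeparated.bc hX₁ hY₁ hX₂ hY₂ a b a' b' sq hq⟩,
    fun x => ?_⟩
  exact (SpRelDim.hasAtMor_fibreDim_baseChange hX₁ hY₁ hX₂ hY₂ sq hl (fun D => D ≤ (d : WithBot ℕ∞)) x).2 (hd _)

theorem isLocalOnBase_bddMor (d : ℕ) : IsLocalOnBase (IsFppfCover (S := S)) (bddMor (S := S) d) := by
  intro ι Y Yi g hY hYi hc X f hX Xi p q hXi sq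
  refine ⟨fun h i => bcStable_bddMor d hX hY (hXi i) (hYi i) f (g i) (p i) (q i) (sq i) h, fun h => ?_⟩
  have hl : LocP @LocallyOfFiniteType f :=
    (isLocalOnBase_fppf (Groth.Agent.S10526.result S) Yi g hY hYi hc f hX Xi p q hXi sq).2 fun i => (h i).1.1
  refine ⟨⟨hl, (cls_quasiSeparated.loc Yi g hY hYi hc f hX Xi p q hXi sq).2 fun i => (h i).1.2⟩, fun x => ?_⟩
  obtain ⟨i, y, hy⟩ := hc.2 (Points.map f x)
  obtain ⟨x', rfl, -⟩ := exists_point_of_isPullback (sq i) x y hy.symm
  exact (SpRelDim.hasAtMor_fibreDim_baseChange hX hY (hXi i) (hYi i) (sq i) hl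
    (fun D => D ≤ (d : WithBot ℕ∞)) x').1 ((h i).2 x')

variable {k : Type u} [Field k]

theorem bddMor_toUnit {X : Over (Spec (CommRingCat.of k))} [LocallyOfFiniteType X.hom] (d : ℕ)
    (hd : topologicalKrullDim (X.left : Type u) ≤ (d : WithBot ℕ∞)) :
    bddMor d ((yon _).map (toUnit X)) := by
  let f : X.left ⟶ Spec (CommRingCat.of k) := (toUnit X).left
  haveI : LocallyOfFiniteType f := by
    have h := Over.w (toUnit X)
    change f ≫ 𝟙 _ = X.hom at h
    rw [Category.comp_id] at h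
    rw [h]; infer_instance
  haveI : IsLocallyNoetherian X.left := LocallyOfFiniteType.isLocallyNoetherian f
  refine ⟨⟨(locP_iff_repWith etST_lft (IsAlgSpace.yon_obj _) (AlgSp.representable_yon_map _)).2
    ((repWith_yon_iff _).2 ‹LocallyOfFiniteType f›),
    (isQuasiSeparatedMor_yon_map_iff _).2 (show QuasiSeparated f from inferInstance)⟩, fun x => ?_⟩
  obtain ⟨t, rfl⟩ := (Points.schemeEquiv X).surjective x
  refine ⟨X, 𝟙_ _, 𝟙 _, 𝟙 _, toUnit X, t, repWith_id', repWith_id',
    by rw [Category.id_comp, Category.comp_id], rfl, ?_⟩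
  show FlatMor.fibreDimAt f t ≤ _
  rw [CMChart.fibreDimAt_eq_localDim]
  exact (TopDim.localDim_le_dim t).trans hd

section
variable {G X : Over (Spec (CommRingCat.of k))} [GrpObj G] [IsAffineHom G.hom] [LocallyOfFiniteType G.hom]
  (aX : AlgGrp.Action G X)

/-- the classifying stack has objects over the base field -/
theorem zero_le_edSt_BG [FibCat.IsFibGrpd (AlgSt.BG Scheme.fppfPrecoverage G).p] :
    (0 : WithBot ℕ∞) ≤ EssDim.edSt (AlgSt.BG Scheme.fppfPrecoverage G) := by
  let a : StkCnt.pts (AlgSt.BG Scheme.fppfPrecoverage G) k :=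
    ⟨(Quot.qX (aX := AlgSt.trivAction G)).obj (Over.mk (toUnit (SGA7.pt (K := k) k))), rfl⟩
  exact le_trans (WithBot.coe_le_coe.2 (bot_le : (0 : ℕ∞) ≤ _))
    (EssDim.edAt_le_ed (P := Gerb.isoClPsh (AlgSt.BG Scheme.fppfPrecoverage G)) (Quot.mk _ a))

/-- the bound for quotient stacks -/
theorem edSt_quot_le [LocallyOfFiniteType X.hom] [FibCat.IsFibGrpd (AlgSt.QuotSt Scheme.fppfPrecoverage G aX).p]
    [FibCat.IsFibGrpd (AlgSt.BG Scheme.fppfPrecoverage G).p] :
    EssDim.edSt (AlgSt.QuotSt Scheme.fppfPrecoverage G aX) ≤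
      EssDim.edSt (AlgSt.BG Scheme.fppfPrecoverage G) + (topologicalKrullDim (X.left : Type u) : WithBot ℕ∞) := by
  haveI : Flat G.hom := flat_of_field _
  haveI : IsLocallyNoetherian G.left := LocallyOfFiniteType.isLocallyNoetherian G.hom
  haveI : LocallyOfFinitePresentation G.hom := inferInstance
  rcases isEmpty_or_nonempty ↥X.left with hX | hX
  · refine iSup_le fun L => iSup_le fun iL => iSup_le fun iA => iSup_le fun ξ => ?_
    exfalso
    induction ξ using Quot.ind with
    | mk x =>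
      obtain ⟨A, hA⟩ := x
      obtain ⟨b⟩ : Nonempty ↥A.base.left := by
        have : A.base = SGA7.pt (K := k) L := hA
        rw [this]
        exact inferInstanceAs (Nonempty (PrimeSpectrum L))
      have h₁ : Surjective G.hom := ⟨fun x => ⟨(MonObj.one : 𝟙_ _ ⟶ G).left x, by
        rw [← Scheme.Hom.comp_apply, Over.w (MonObj.one : 𝟙_ _ ⟶ G)]; rfl⟩⟩
      have : Surjective A.π.left := Quot.prop_π @Surjective h₁ A
      obtain ⟨z, -⟩ := this.surj b
      exact hX.elim (A.φ.left z)
  obtain ⟨N, hN⟩ : ∃ N : ℕ∞, topologicalKrullDim ↥X.left = (N : WithBot ℕ∞) := by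
    obtain ⟨t⟩ := hX
    rcases h : topologicalKrullDim ↥X.left with _ | N
    · exfalso
      haveI : Nonempty (TopologicalSpace.IrreducibleCloseds ↥X.left) :=
        ⟨⟨irreducibleComponent t, isIrreducible_irreducibleComponent, isClosed_irreducibleComponent⟩⟩
      have := Order.bot_lt_krullDim (α := TopologicalSpace.IrreducibleCloseds ↥X.left)
      exact absurd h (ne_of_gt this)
    · exact ⟨N, rfl⟩
  rw [hN]
  cases N with
  | top =>
    refine le_trans le_top ?_
    obtain ⟨m, hm⟩ := WithBot.ne_bot_iff_exists.1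
      (ne_bot_of_le_ne_bot (by simp) (zero_le_edSt_BG (G := G)))
    rw [← hm, ← WithBot.coe_add, add_top]
    exact le_rfl
  | coe d =>
    exact edSt_le (forgetFun aX) d (repWith_forgetFun aX (bcStable_bddMor d) (isLocalOnBase_bddMor d)
      (bddMor_toUnit d (le_of_eq hN)))

end

end Groth.Agent.EssDimRep
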